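import Cfsg.Agent.EqLemmas
import Cfsg.Agent.Lib.Involves.Basic

/-!
Sections isomorphic to the symmetric groups of degree three and four.

* `involves_perm_three_iff` : `S₃` is involved iff a non-trivial 3-element is inverted
* `not_involves_perm_four_of_comm` : abelian Sylow 2-subgroups exclude `S₄`
* `not_involves_perm_four_of_ti` : trivial intersection Sylow 2-subgroups with abelian `N(P)/P` exclude `S₄`
-/

set_option autoImplicit false

namespace Cfsg.Agent.GoldschmidtFree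

open Subgroup

variable {G : Type*} [Group G]

/-- No element of 3-power order other than `1` is inverted. -/
def NoInverted (G : Type*) [Group G] : Prop :=
  ∀ x g : G, (∃ k : ℕ, orderOf x = 3 ^ k) → g * x * g⁻¹ = x⁻¹ → x = 1

theorem NoInverted.of_injective {H : Type*} [Group H] (h : NoInverted G) (f : H →* G)
    (hf : Function.Injective f) : NoInverted H := fun x g hx hg =>
  hf ((h (f x) (f g) (by rwa [orderOf_injective f hf]) (by simp [← map_inv, ← map_mul, hg])).trans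
    (map_one f).symm)

theorem exists_dihedral_three_equiv :
    Nonempty (DihedralGroup 3 ≃* Equiv.Perm (Fin 3)) := by
  let f : DihedralGroup 3 →* Equiv.Perm (Fin 3) :=
    Involves.dihedralHom (n := 3) (x := Equiv.swap 0 1) (y := finRotate 3)
      (by decide) (by decide) (by decide)
  refine ⟨MulEquiv.ofBijective f ?_⟩
  rw [Fintype.bijective_iff_injective_and_card]
  refine ⟨?_, by decide⟩
  intro a b h
  revert h; revert a b
  decide

/-- An inverting element may be taken of 2-power order. -/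
theorem exists_two_power_inverter [Finite G] {x g : G} (h : g * x * g⁻¹ = x⁻¹) :
    ∃ t : G, (∃ k : ℕ, orderOf t = 2 ^ k) ∧ t * x * t⁻¹ = x⁻¹ := by
  have : Fact (Nat.Prime 2) := ⟨Nat.prime_two⟩
  obtain ⟨m, hm, k, hk⟩ := Involves.exists_primary_pow (q := 2) g
  refine ⟨g ^ m, ⟨k, hk⟩, ?_⟩
  have key : ∀ j : ℕ, g ^ (2 * j + 1) * x * (g ^ (2 * j + 1))⁻¹ = x⁻¹ := by
    intro j
    induction j with
    | zero => simpa using h
    | succ j ih =>
      have h2 : g * x⁻¹ * g⁻¹ = x := by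
        calc g * x⁻¹ * g⁻¹ = (g * x * g⁻¹)⁻¹ := by group
          _ = x := by rw [h, inv_inv]
      calc g ^ (2 * (j + 1) + 1) * x * (g ^ (2 * (j + 1) + 1))⁻¹
          = g * (g * (g ^ (2 * j + 1) * x * (g ^ (2 * j + 1))⁻¹) * g⁻¹) * g⁻¹ := by
            rw [show 2 * (j + 1) + 1 = (2 * j + 1) + 1 + 1 by ring, pow_succ', pow_succ']
            group
        _ = x⁻¹ := by rw [ih, h2, h]
  obtain ⟨j, rfl⟩ : Odd m := Nat.odd_iff.2 (by omega)
  exact key j

theorem involves_perm_three_iff [Finite G] :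
    Cfsg.Involves (Equiv.Perm (Fin 3)) G ↔ ¬ NoInverted G := by
  have : Fact (Nat.Prime 3) := ⟨Nat.prime_three⟩
  obtain ⟨e⟩ := exists_dihedral_three_equiv
  constructor
  · intro h hno
    obtain ⟨K, f, hf⟩ := Involves.exists_hom_of_involves (Involves.involves_of_mulEquiv e.symm h)
    obtain ⟨t, y, -, ⟨k, hk⟩, hty, hy⟩ := Involves.exists_inverting_of_surjective (by norm_num) f hf
    have h1 := hno (y : G) (t : G) ⟨k, by rwa [orderOf_coe]⟩ (by
      simpa using congrArg Subtype.val hty)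
    exact hy (by rw [show y = 1 from Subtype.ext h1, map_one])
  · intro h
    simp only [NoInverted, not_forall] at h
    obtain ⟨x, g, hx, hg, hx1⟩ := h
    obtain ⟨t, ht, htx⟩ := exists_two_power_inverter hg
    exact Involves.involves_of_mulEquiv e
      (Involves.involves_dihedral_of_inverting (by norm_num) ht hx hx1 htx)

/-- A 2-subgroup of `S₄` that is not commutative. -/
theorem exists_noncomm_two_subgroup :
    ∃ H : Subgroup (Equiv.Perm (Fin 4)), IsPGroup 2 H ∧ ∃ a ∈ H, ∃ b ∈ H, a * b ≠ b * a := by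
  let f : DihedralGroup 4 →* Equiv.Perm (Fin 4) :=
    Involves.dihedralHom (n := 4) (x := Equiv.swap 0 2) (y := finRotate 4)
      (by decide) (by decide) (by decide)
  refine ⟨f.range, ?_, f (DihedralGroup.r 1), ⟨_, rfl⟩, f (DihedralGroup.sr 0), ⟨_, rfl⟩, by decide⟩
  exact (IsPGroup.of_card (n := 3) (G := DihedralGroup 4) (by rw [Nat.card_eq_fintype_card]; rfl)).of_surjective
    f.rangeRestrict f.rangeRestrict_surjective

theorem not_involves_perm_four_of_comm [Finite G]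
    (h : ∀ S : Sylow 2 G, ∀ a ∈ (S : Subgroup G), ∀ b ∈ (S : Subgroup G), a * b = b * a) :
    ¬ Cfsg.Involves (Equiv.Perm (Fin 4)) G := by
  have : Fact (Nat.Prime 2) := ⟨Nat.prime_two⟩
  intro hinv
  obtain ⟨K, f, hf⟩ := Involves.exists_hom_of_involves hinv
  obtain ⟨H, hH, a, ha, b, hb, hab⟩ := exists_noncomm_two_subgroup
  obtain ⟨P⟩ : Nonempty (Sylow 2 K) := inferInstance
  obtain ⟨Q, hQ⟩ := hH.exists_le_sylow
  obtain ⟨g, hg⟩ := MulAction.exists_smul_eq (Equiv.Perm (Fin 4)) (P.mapSurjective hf) Q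
  obtain ⟨S, hS⟩ := (P.2.map K.subtype).exists_le_sylow
  have key : ∀ x ∈ Q, ∃ p ∈ (P : Subgroup K), g * f p * g⁻¹ = x := by
    intro x hx
    have hx' : x ∈ (Q : Subgroup (Equiv.Perm (Fin 4))) := hx
    rw [← hg, Sylow.coe_subgroup_smul, Subgroup.mem_pointwise_smul_iff_inv_smul_mem] at hx'
    obtain ⟨p, hp, e⟩ := hx'
    exact ⟨p, hp, by simp [e, ← mul_assoc]⟩
  obtain ⟨p, hp, rfl⟩ := key a (hQ ha)
  obtain ⟨r, hr, rfl⟩ := key b (hQ hb)
  have hpr : p * r = r * p :=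
    Subtype.ext (h S _ (hS ⟨p, hp, rfl⟩) _ (hS ⟨r, hr, rfl⟩))
  apply hab
  calc g * f p * g⁻¹ * (g * f r * g⁻¹) = g * f (p * r) * g⁻¹ := by rw [map_mul]; group
    _ = g * f (r * p) * g⁻¹ := by rw [hpr]
    _ = _ := by rw [map_mul]; group

theorem klein_conj : ∀ v : Equiv.Perm (Fin 4), Equiv.Perm.sign v = 1 → v * v = 1 →
    ∀ g : Equiv.Perm (Fin 4), (g * v * g⁻¹) * (g * v * g⁻¹) = 1 := by decide +kernel

/-- Trivial intersection Sylow 2-subgroups with abelian `N(P)/P` exclude `S₄`. -/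
theorem not_involves_perm_four_of_ti [Finite G]
    (hti : ∀ P : Sylow 2 G, ∀ g x : G, x ∈ (P : Subgroup G) → x ≠ 1 →
      g * x * g⁻¹ ∈ (P : Subgroup G) → g ∈ normalizer ((P : Subgroup G) : Set G))
    (hcom : ∀ P : Sylow 2 G, ∀ a ∈ normalizer ((P : Subgroup G) : Set G),
      ∀ b ∈ normalizer ((P : Subgroup G) : Set G), a * b * a⁻¹ * b⁻¹ ∈ (P : Subgroup G)) :
    ¬ Cfsg.Involves (Equiv.Perm (Fin 4)) G := by
  have : Fact (Nat.Prime 2) := ⟨Nat.prime_two⟩
  intro hinv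
  obtain ⟨K, f, hf⟩ := Involves.exists_hom_of_involves hinv
  obtain ⟨R⟩ : Nonempty (Sylow 2 K) := inferInstance
  set c : Equiv.Perm (Fin 4) := Equiv.swap 0 1 * Equiv.swap 1 2 with hc
  set d : Equiv.Perm (Fin 4) := Equiv.swap 0 1 with hd
  set v : Equiv.Perm (Fin 4) := Equiv.swap 0 1 * Equiv.swap 2 3 with hv
  -- the preimage of the four group
  let V : Subgroup (Equiv.Perm (Fin 4)) :=
    { carrier := {x | Equiv.Perm.sign x = 1 ∧ x * x = 1}
      one_mem' := by simp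
      mul_mem' := by
        have : ∀ a b : Equiv.Perm (Fin 4), Equiv.Perm.sign a = 1 ∧ a * a = 1 →
            Equiv.Perm.sign b = 1 ∧ b * b = 1 →
            Equiv.Perm.sign (a * b) = 1 ∧ a * b * (a * b) = 1 := by decide +kernel
        exact fun {a b} ha hb => this a b ha hb
      inv_mem' := by
        have : ∀ a : Equiv.Perm (Fin 4), Equiv.Perm.sign a = 1 ∧ a * a = 1 →
            Equiv.Perm.sign a⁻¹ = 1 ∧ a⁻¹ * a⁻¹ = 1 := by decide
        exact fun {a} ha => this a ha }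
  have hVn : V.Normal := ⟨fun x hx g => ⟨by simp [hx.1], klein_conj x hx.1 hx.2 g⟩⟩
  set L := V.comap f with hL
  obtain ⟨T⟩ : Nonempty (Sylow 2 L) := inferInstance
  set T' : Subgroup K := (T : Subgroup L).map L.subtype with hT'
  have hfrat : normalizer (T' : Set K) ⊔ L = ⊤ := T.normalizer_sup_eq_top
  have hfN : ∀ y : Equiv.Perm (Fin 4), ∃ n ∈ normalizer (T' : Set K), f n * y⁻¹ ∈ V := by
    intro y
    obtain ⟨k, rfl⟩ := hf y
    have hk : k ∈ normalizer (T' : Set K) ⊔ L := hfrat.symm ▸ mem_top k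
    obtain ⟨n, hn, l, hl, rfl⟩ := Subgroup.mem_sup_of_normal_right.1 hk
    refine ⟨n, hn, ?_⟩
    rw [map_mul, mul_inv_rev, ← mul_assoc]
    exact hVn.conj_mem _ (V.inv_mem hl) _
  -- `T'` is non-trivial
  have hT1 : T' ≠ ⊥ := by
    intro h0
    have h0' : Nat.card (T : Subgroup L) = 1 := by
      rw [← Subgroup.card_bot (G := K), ← h0, hT']
      exact Nat.card_congr ((T : Subgroup L).equivMapOfInjective L.subtype L.subtype_injective).toEquiv
    obtain ⟨l, hl⟩ := hf v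
    have hlL : l ∈ L := by
      show f l ∈ V
      rw [hl]; exact ⟨by decide, by decide⟩
    have h2 : 2 ∣ Nat.card L := by
      have ho : orderOf (f.comp L.subtype ⟨l, hlL⟩) = 2 := by
        rw [orderOf_eq_prime_iff]
        simp only [MonoidHom.comp_apply, Subgroup.coe_subtype, hl]
        exact ⟨by decide, by decide⟩
      exact ho ▸ (orderOf_map_dvd _ _).trans (orderOf_dvd_natCard _)
    have := T.dvd_card_of_dvd_card h2
    rw [h0'] at this
    omega
  obtain ⟨S, hS⟩ := (((T.2.map L.subtype).map K.subtype)).exists_le_sylow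
  obtain ⟨x, hx, hx1⟩ := (Subgroup.ne_bot_iff_exists_ne_one.1 hT1 : ∃ x : T', x ≠ 1) |>.elim
    fun x hx => (⟨(x : K), x.2, fun e => hx (Subtype.ext e)⟩ : ∃ x ∈ T', x ≠ 1)
  have hxS : (x : G) ∈ (S : Subgroup G) := hS ⟨x, hx, rfl⟩
  have hN : ∀ n ∈ normalizer (T' : Set K), (n : G) ∈ normalizer ((S : Subgroup G) : Set G) :=
    fun n hn => hti S n x hxS (fun e => hx1 (Subtype.ext e))
      (hS ⟨n * x * n⁻¹, (Subgroup.mem_normalizer_iff.1 hn x).1 hx, rfl⟩)
  obtain ⟨n, hn, hnc⟩ := hfN c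
  obtain ⟨m, hm, hmd⟩ := hfN d
  set z := n * m * n⁻¹ * m⁻¹ with hz
  have hzS : (z : G) ∈ (S : Subgroup G) := by
    simpa [hz] using hcom S _ (hN n hn) _ (hN m hm)
  obtain ⟨j, hj⟩ := S.2 ⟨_, hzS⟩
  have hz2 : z ^ 2 ^ j = 1 := Subtype.ext (by simpa using congrArg Subtype.val hj)
  have h3 : f z ^ 3 = 1 ∧ f z ≠ 1 := by
    have key : ∀ a b : Equiv.Perm (Fin 4), (a * c⁻¹) * (a * c⁻¹) = 1 → Equiv.Perm.sign (a * c⁻¹) = 1 →
        (b * d⁻¹) * (b * d⁻¹) = 1 → Equiv.Perm.sign (b * d⁻¹) = 1 →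
        (a * b * a⁻¹ * b⁻¹) ^ 3 = 1 ∧ a * b * a⁻¹ * b⁻¹ ≠ 1 := by decide +kernel
    simpa [hz] using key (f n) (f m) hnc.2 hnc.1 hmd.2 hmd.1
  have ho : orderOf (f z) = 3 := orderOf_eq_prime h3.1 h3.2
  have hd' : orderOf (f z) ∣ 2 ^ j := orderOf_dvd_of_pow_eq_one (by rw [← map_pow, hz2, map_one])
  rw [ho] at hd'
  have := Nat.prime_three.dvd_of_dvd_pow hd'
  omega

end Cfsg.Agent.GoldschmidtFree
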