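import Cfsg.Agent.EqLemmas
import Cfsg.Agent.Lib.GoldschmidtFree.Basic
import Cfsg.Agent.Lib.ReeInverted.Fusion
import Cfsg.Agent.Lib.PSL2.Existence
import Cfsg.Agent.Lib.PSL2.Transvections
import Cfsg.Agent.Lib.Suzuki.Tori
import Cfsg.Agent.Lib.Suzuki.Stabilizer
import Cfsg.Agent.Lib.Suzuki.LieModel
import Cfsg.Agent.Lib.JankoOne.Centralizer
import Cfsg.Agent.Lib.JankoOne.Order
import Cfsg.Agent.Lib.Goldschmidt.General.RankFacts.Unitary
import Mathlib.LinearAlgebra.Matrix.Charpoly.Coeff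

/-!
The families of Goldschmidt groups: sections of type `S₄` and `S₃`.
-/

set_option autoImplicit false
set_option linter.unusedSectionVars false

namespace Cfsg.Agent.GoldschmidtFree

open Subgroup

variable {G : Type*} [Group G]

theorem comm_of_two_group [Finite G] (h8 : ¬ 8 ∣ Nat.card G) {P : Subgroup G} (hP : IsPGroup 2 P) :
    ∀ a ∈ P, ∀ b ∈ P, a * b = b * a := by
  have : Fact (Nat.Prime 2) := ⟨Nat.prime_two⟩
  obtain ⟨j, hj⟩ := IsPGroup.iff_card.1 hP
  have hj2 : j ≤ 2 := by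
    by_contra hgt
    exact h8 ((pow_dvd_pow 2 (by omega : 3 ≤ j)).trans (hj ▸ card_subgroup_dvd_card P))
  have hc : IsMulCommutative P := by
    interval_cases j
    · have := Nat.card_eq_one_iff_unique.1 (hj.trans (pow_zero 2))
      exact ⟨⟨fun a b => this.1.elim _ _⟩⟩
    · have : IsCyclic P := isCyclic_of_prime_card (p := 2) (hj.trans (pow_one 2))
      infer_instance
    · exact IsPGroup.isMulCommutative_of_card_eq_prime_sq (p := 2) hj
  intro a ha b hb
  exact congrArg Subtype.val (hc.is_comm.comm ⟨a, ha⟩ ⟨b, hb⟩)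

theorem not_involves_perm_four_of_not_eight [Finite G] (h8 : ¬ 8 ∣ Nat.card G) :
    ¬ Cfsg.Involves (Equiv.Perm (Fin 4)) G :=
  not_involves_perm_four_of_comm fun S => comm_of_two_group h8 S.2

theorem not_involves_perm_four_of_three [Finite G] (h3 : ¬ 3 ∣ Nat.card G) :
    ¬ Cfsg.Involves (Equiv.Perm (Fin 4)) G := by
  intro h
  obtain ⟨K, f, hf⟩ := Involves.exists_hom_of_involves h
  refine h3 (Dvd.dvd.trans ?_ ((card_dvd_of_surjective f hf).trans (card_subgroup_dvd_card K)))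
  rw [Nat.card_eq_fintype_card, Fintype.card_perm, Fintype.card_fin]
  decide

theorem noInverted_of_three [Finite G] (h3 : ¬ 3 ∣ Nat.card G) : NoInverted G := by
  rintro x g ⟨k, hk⟩ -
  rcases k with _ | k
  · exact orderOf_eq_one_iff.1 (hk.trans (pow_zero 3))
  · exact absurd ((dvd_pow_self 3 k.succ_ne_zero).trans (hk ▸ orderOf_dvd_natCard x)) h3

theorem noInverted_congr {H : Type*} [Group H] (e : G ≃* H) (h : NoInverted H) : NoInverted G :=
  h.of_injective e.toMonoidHom e.injective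

theorem not_noInverted_of_sub {H : Type*} [Group H] (f : H →* G) (hf : Function.Injective f)
    (h : ¬ NoInverted H) : ¬ NoInverted G := fun h' => h (h'.of_injective f hf)

theorem involves_four_congr {H : Type*} [Group H] (e : G ≃* H)
    (h : ¬ Cfsg.Involves (Equiv.Perm (Fin 4)) H) : ¬ Cfsg.Involves (Equiv.Perm (Fin 4)) G := by
  intro hi
  apply h
  obtain ⟨K, f, hf⟩ := Involves.exists_hom_of_involves hi
  exact Involves.involves_of_hom (f.comp (K.equivMapOfInjective e.toMonoidHom e.injective).symm.toMonoidHom)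
    (hf.comp (K.equivMapOfInjective e.toMonoidHom e.injective).symm.surjective)

/-! ### Suzuki groups -/

theorem three_not_dvd_suzuki (h : Cfsg.Lie.IsoSuzuki G) : ¬ 3 ∣ Nat.card G := by
  obtain ⟨F, iF, iFt, m, hm, hF, ⟨e⟩⟩ := h
  rw [Nat.card_congr e.toEquiv, ← Nat.card_congr (Suzuki.lieEquiv hm hF).toEquiv, Suzuki.card_sz hm hF]
  exact Suzuki.not_three_dvd m

/-! ### `PSL₂` -/

section PSL

variable {F : Type*} [Field F] [Fintype F]

open PSL2

theorem two_pow_mod {n : ℕ} : 3 ^ (2 * n + 1) % 4 = 3 := by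
  rw [pow_succ, pow_mul, Nat.mul_mod, Nat.pow_mod]; norm_num

/-- `PSL₂(3^odd)` has no inverted 3-element. -/
theorem noInverted_psl {n : ℕ} (hF : Fintype.card F = 3 ^ (2 * n + 1)) : NoInverted (PSL2 F) := by
  have : Fact (Nat.Prime 3) := ⟨Nat.prime_three⟩
  have : CharP F 3 := by
    obtain ⟨p, hp⟩ := CharP.exists F
    have : Fact p.Prime := ⟨CharP.char_is_prime F p⟩
    obtain ⟨e, he, hcq⟩ := FiniteField.card F p
    have hp3 : p ∣ 3 ^ (2 * n + 1) := by rw [← hF, hcq]; exact dvd_pow_self p e.pos.ne'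
    rwa [← (Nat.prime_dvd_prime_iff_eq Fact.out Nat.prime_three).1
      ((Fact.out : p.Prime).dvd_of_dvd_pow hp3)]
  rintro x g ⟨k, hk⟩ hg
  obtain ⟨X₀, rfl⟩ := QuotientGroup.mk_surjective x
  obtain ⟨g, rfl⟩ := QuotientGroup.mk_surjective g
  -- a unipotent preimage
  obtain ⟨X, hX, hX3⟩ : ∃ X : SL2 F, (QuotientGroup.mk X : PSL2 F) = QuotientGroup.mk X₀ ∧ X.1 ^ 3 ^ k = 1 := by
    have hc : X₀ ^ 3 ^ k ∈ Subgroup.center (SL2 F) := by
      rw [← QuotientGroup.eq_one_iff, QuotientGroup.mk_pow, ← hk, pow_orderOf_eq_one]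
    rcases mem_center_iff'.1 hc with e | e
    · exact ⟨X₀, rfl, by rw [← Matrix.SpecialLinearGroup.coe_pow, e]; simp⟩
    · refine ⟨-X₀, QuotientGroup.eq.2 (mem_center_iff'.2 (Or.inr ?_)), ?_⟩
      · rw [inv_mul_eq_iff_eq_mul, neg_mul_neg, mul_one]
      · have ho : Odd (3 ^ k) := Odd.pow (by decide)
        rw [Matrix.SpecialLinearGroup.coe_neg, ho.neg_pow, ← Matrix.SpecialLinearGroup.coe_pow, e]
        simp
  rw [← hX] at hg ⊢
  have : CharP (Matrix (Fin 2) (Fin 2) F) 3 := inferInstance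
  have hnil : IsNilpotent (X.1 - 1) := ⟨3 ^ k, by
    rw [sub_pow_char_pow_of_commute (p := 3) (n := k) (h := Commute.one_right _), hX3, one_pow, sub_self]⟩
  have htr : X.1 0 0 + X.1 1 1 = 2 := by
    have h1 := (Matrix.isNilpotent_trace_of_isNilpotent hnil).eq_zero
    rw [Matrix.trace_fin_two] at h1
    simp at h1
    linear_combination h1
  set a := X.1 0 0 - 1 with ha
  set b := X.1 0 1 with hb
  set c := X.1 1 0 with hc
  have hd : X.1 1 1 - 1 = -a := by rw [ha]; linear_combination htr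
  have hbc : a * a + b * c = 0 := by
    have := det_eq X
    rw [ha, hb, hc]
    linear_combination (X.1 0 0) * htr - this
  by_contra hne
  have habc : ¬ (a = 0 ∧ b = 0 ∧ c = 0) := by
    rintro ⟨h1, h2, h3⟩
    apply hne
    rw [show X = 1 from Subtype.ext (by
      ext i j
      fin_cases i <;> fin_cases j <;> simp
      · linear_combination h1
      · exact h2
      · exact h3
      · linear_combination hd - h1)]
    rfl
  -- the inverting element
  rw [← QuotientGroup.mk_mul, ← QuotientGroup.mk_inv, ← QuotientGroup.mk_mul, ← QuotientGroup.mk_inv,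
    QuotientGroup.eq] at hg
  obtain ⟨σ, hσ, he⟩ : ∃ σ : F, (σ = 1 ∨ σ = -1) ∧ g.1 * X.1 * g⁻¹.1 = σ • (X⁻¹).1 := by
    rcases mem_center_iff'.1 hg with e | e
    · refine ⟨1, Or.inl rfl, ?_⟩
      rw [one_smul]
      have h0 : (g * X * g⁻¹)⁻¹ * X⁻¹ = 1 := e
      rw [inv_mul_eq_one] at h0
      exact congrArg Subtype.val h0
    · refine ⟨-1, Or.inr rfl, ?_⟩
      rw [neg_smul, one_smul]
      have h0 : (g * X * g⁻¹)⁻¹ * X⁻¹ = -1 := e
      rw [inv_mul_eq_iff_eq_mul, mul_neg, mul_one] at h0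
      rw [h0, Matrix.SpecialLinearGroup.coe_neg, neg_neg]
      rfl
  have h3 : (3 : F) = 0 := by exact_mod_cast CharP.cast_eq_zero F 3
  have hinv : (X⁻¹).1 = !![X.1 1 1, -(X.1 0 1); -(X.1 1 0), X.1 0 0] := by
    rw [Matrix.SpecialLinearGroup.coe_inv, Matrix.adjugate_fin_two]
  obtain rfl : σ = 1 := by
    have ht := congrArg Matrix.trace he
    rw [Matrix.trace_mul_comm, ← Matrix.mul_assoc, ← Matrix.SpecialLinearGroup.coe_mul, inv_mul_cancel,
      Matrix.SpecialLinearGroup.coe_one, Matrix.one_mul, Matrix.trace_smul, hinv, Matrix.trace_fin_two,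
      Matrix.trace_fin_two] at ht
    simp only [smul_eq_mul, Matrix.cons_val', Matrix.cons_val_zero, Matrix.cons_val_one,
      Matrix.empty_val', Matrix.cons_val_fin_one, Matrix.of_apply] at ht
    rw [add_comm (X.1 1 1), htr] at ht
    rcases hσ with h1 | h1
    · exact h1
    · exfalso
      rw [h1] at ht
      have : (1 : F) = 0 := by linear_combination ht - h3
      exact one_ne_zero this
  rw [one_smul] at he
  have he' : g.1 * X.1 = (X⁻¹).1 * g.1 := by
    rw [← he, Matrix.mul_assoc _ g⁻¹.1, ← Matrix.SpecialLinearGroup.coe_mul g⁻¹ g, inv_mul_cancel,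
      Matrix.SpecialLinearGroup.coe_one, Matrix.mul_one]
  rw [hinv] at he'
  have e00 := congrFun (congrFun he' 0) 0
  have e01 := congrFun (congrFun he' 0) 1
  have e10 := congrFun (congrFun he' 1) 0
  have e11 := congrFun (congrFun he' 1) 1
  simp [Matrix.mul_apply, Fin.sum_univ_two] at e00 e01 e10 e11
  set α := g.1 0 0
  set β := g.1 0 1
  set γ := g.1 1 0
  set δ := g.1 1 1
  have hdetg : α * δ - β * γ = 1 := det_eq g
  have hx00 : X.1 0 0 = 1 + a := by rw [ha]; ring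
  have hx11 : X.1 1 1 = 1 - a := by linear_combination hd
  simp only [hx00, hx11, ← hb, ← hc] at e00 e01 e10 e11
  have h2 : (2 : F) ≠ 0 := fun h => one_ne_zero (show (1 : F) = 0 by linear_combination h3 - h)
  apply (FiniteField.isSquare_neg_one_iff (F := F)).1 _ (by rw [hF]; exact two_pow_mod)
  by_cases hc0 : c = 0
  · have ha0 : a = 0 := by
      rw [hc0, mul_zero, add_zero] at hbc
      exact mul_self_eq_zero.1 hbc
    have hb0 : b ≠ 0 := fun h => habc ⟨ha0, h, hc0⟩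
    simp only [ha0, hc0] at e00 e01 e11
    have hγ : γ = 0 := by
      have h4 : b * γ = 0 := by linear_combination e00
      exact (mul_eq_zero.1 h4).resolve_left hb0
    have hαδ : α = -δ := by
      have h4 : b * (α + δ) = 0 := by linear_combination e01
      linear_combination (mul_eq_zero.1 h4).resolve_left hb0
    refine ⟨α, ?_⟩
    rw [hγ, mul_zero, sub_zero] at hdetg
    linear_combination -α * hαδ + hdetg
  · have hδ : δ = -α := by
      have h4 : c * (α + δ) = 0 := by linear_combination e10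
      linear_combination (mul_eq_zero.1 h4).resolve_left hc0
    have h5 : 2 * α * a + β * c + b * γ = 0 := by linear_combination e00
    refine ⟨γ * a / c - α, ?_⟩
    rw [hδ] at hdetg
    field_simp
    linear_combination c ^ 2 * hdetg + c * γ * h5 - γ ^ 2 * hbc

theorem not_noInverted_psl_dihedral (h3 : ¬ 3 ∣ Fintype.card F) (h2 : Odd (Fintype.card F)) :
    ¬ NoInverted (PSL2 F) := by
  intro hno
  have hq : Nat.card F = Fintype.card F := Nat.card_eq_fintype_card
  have h1 : 1 < Fintype.card F := Fintype.one_lt_card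
  obtain ⟨j, hj⟩ := h2
  have hg : Nat.gcd 2 (Nat.card F - 1) = 2 := by
    rw [hq]; exact Nat.gcd_eq_left ⟨j, by omega⟩
  obtain ⟨H, ⟨e⟩⟩ := exists_dihedral_sub (F := F) (n := 3) (by norm_num) (by
    rw [hg, hq, hj, show (2 * j + 1 - 1) / 2 = j by omega, show (2 * j + 1 + 1) / 2 = j + 1 by omega]
    rw [hj] at h3
    rcases (show j % 3 = 0 ∨ j % 3 = 1 ∨ j % 3 = 2 by omega) with h | h | h <;> omega)
  have hH : NoInverted (DihedralGroup 3) :=
    noInverted_congr e.symm (hno.of_injective H.subtype H.subtype_injective)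
  have := hH (DihedralGroup.r 1) (DihedralGroup.sr 0) ⟨1, by rw [DihedralGroup.orderOf_r_one, pow_one]⟩
    (by decide)
  revert this
  decide

theorem not_noInverted_psl_even [CharP F 2] : ¬ NoInverted (PSL2 F) := by
  intro hno
  let x : SL2 F := ⟨!![0, 1; -1, -1], by rw [Matrix.det_fin_two_of]; ring⟩
  let g : SL2 F := ⟨!![0, 1; 1, 0], by rw [Matrix.det_fin_two_of]; simp [CharTwo.neg_eq]⟩
  have hx : x ^ 3 = 1 := Subtype.ext (by
    rw [Matrix.SpecialLinearGroup.coe_pow, pow_succ, pow_two]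
    ext i j
    fin_cases i <;> fin_cases j <;> simp [x, Matrix.mul_apply, Fin.sum_univ_two])
  have hxg : g * x * g⁻¹ = x⁻¹ := Subtype.ext (by
    rw [Matrix.SpecialLinearGroup.coe_mul, Matrix.SpecialLinearGroup.coe_mul,
      Matrix.SpecialLinearGroup.coe_inv, Matrix.SpecialLinearGroup.coe_inv, Matrix.adjugate_fin_two,
      Matrix.adjugate_fin_two]
    ext i j
    fin_cases i <;> fin_cases j <;> simp [x, g, Matrix.mul_apply, Fin.sum_univ_two, CharTwo.neg_eq])
  have hx1 : (QuotientGroup.mk x : PSL2 F) ≠ 1 := by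
    intro e
    rcases mem_center_iff'.1 ((QuotientGroup.eq_one_iff _).1 e) with h | h <;>
      have := congrFun (congrFun (congrArg Subtype.val h) 0) 1 <;> simp [x] at this
  have : Fact (Nat.Prime 3) := ⟨Nat.prime_three⟩
  refine hx1 (hno _ (QuotientGroup.mk g) ⟨1, ?_⟩ ?_)
  · rw [pow_one]
    exact orderOf_eq_prime (by rw [← QuotientGroup.mk_pow, hx]; rfl) hx1
  · rw [← QuotientGroup.mk_inv, ← QuotientGroup.mk_mul, ← QuotientGroup.mk_mul, ← QuotientGroup.mk_inv, hxg]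

theorem not_involves_four_psl_even [CharP F 2] {n : ℕ} (hn : Fintype.card F = 2 ^ n) :
    ¬ Cfsg.Involves (Equiv.Perm (Fin 4)) (PSL2 F) := by
  have : Fact (Nat.Prime 2) := ⟨Nat.prime_two⟩
  let u : Multiplicative F →* PSL2 F :=
    MonoidHom.mk' (fun c => QuotientGroup.mk (upT (Multiplicative.toAdd c))) fun a b => by
      show (QuotientGroup.mk (upT (Multiplicative.toAdd (a * b))) : PSL2 F) = QuotientGroup.mk (upT _ * upT _)
      congr 1
      refine Subtype.ext ?_
      rw [Matrix.SpecialLinearGroup.coe_mul]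
      simp [upT, Matrix.mul_fin_two, add_comm]
  have hu : Function.Injective u := by
    rw [injective_iff_map_eq_one]
    intro a ha
    rcases mem_center_iff'.1 ((QuotientGroup.eq_one_iff _).1 ha) with h | h <;>
      · have := congrFun (congrFun (congrArg Subtype.val h) 0) 1
        simpa [upT] using this
  have hcard : Nat.card u.range = 2 ^ n := by
    rw [← Nat.card_congr (MonoidHom.ofInjective hu).toEquiv, Nat.card_congr Multiplicative.toAdd,
      Nat.card_eq_fintype_card, hn]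
  obtain ⟨S, hS⟩ := (IsPGroup.of_card hcard).exists_le_sylow
  have hG : Nat.card (PSL2 F) = 2 ^ n * ((2 ^ n + 1) * (2 ^ n - 1)) := by
    have h := card_psl_mul (F := F)
    rw [Nat.card_eq_fintype_card (α := F), hn] at h
    rcases n with _ | n
    · simp at hn
      exact absurd hn (Fintype.one_lt_card (α := F)).ne'
    · have : Nat.gcd 2 (2 ^ (n + 1) - 1) = 1 := by
        rw [← Nat.coprime_iff_gcd_eq_one, Nat.prime_two.coprime_iff_not_dvd]
        have := Nat.two_pow_pos n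
        rw [pow_succ]; omega
      rwa [this, one_mul] at h
  have hSe : (S : Subgroup (PSL2 F)) = u.range := by
    refine (eq_of_le_of_card_ge hS ?_).symm
    rw [hcard]
    obtain ⟨j, hj⟩ := IsPGroup.iff_card.1 S.2
    rw [hj]
    refine Nat.pow_le_pow_right two_pos ?_
    by_contra hgt
    have hd : 2 ^ (n + 1) ∣ Nat.card (PSL2 F) :=
      (pow_dvd_pow 2 (by omega : n + 1 ≤ j)).trans (hj ▸ card_subgroup_dvd_card _)
    rw [hG, pow_succ, Nat.mul_dvd_mul_iff_left (by positivity), Nat.prime_two.dvd_mul] at hd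
    have : 0 < n := by
      rcases n with _ | n
      · simp at hn; exact absurd hn (Fintype.one_lt_card (α := F)).ne'
      · omega
    obtain ⟨m, hm⟩ : 2 ∣ 2 ^ n := dvd_pow_self 2 this.ne'
    have : 0 < 2 ^ n := by positivity
    omega
  refine not_involves_perm_four_of_comm fun T => ?_
  obtain ⟨g, rfl⟩ := MulAction.exists_smul_eq (PSL2 F) S T
  rw [Sylow.coe_subgroup_smul, hSe]
  rintro _ ⟨_, ⟨a, rfl⟩, rfl⟩ _ ⟨_, ⟨b, rfl⟩, rfl⟩
  show MulAut.conj g (u a) * MulAut.conj g (u b) = MulAut.conj g (u b) * MulAut.conj g (u a)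
  rw [← map_mul, ← map_mul, ← map_mul, ← map_mul, mul_comm a]

end PSL

/-! ### `PSU₃` -/

section PSU

variable {F : Type} [Field F] [Fintype F] {n : ℕ}

open Goldschmidt.General Goldschmidt.General.Rank

theorem not_involves_four_psu (hn : 2 ≤ n) (hF : Fintype.card F = (2 ^ n) ^ 2) :
    ¬ Cfsg.Involves (Equiv.Perm (Fin 4)) (Cfsg.PSU 3 F (2 ^ n)) := by
  have : Fact (Nat.Prime 2) := ⟨Nat.prime_two⟩
  have R := rankFacts_psu hn hF
  obtain ⟨Ω, _, _, a, t, Q, h, -, hQ, -, -, ⟨F', _, _, _, k, φ, ψ, l, m, D⟩⟩ := (model_psu hn hF).1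
  refine not_involves_perm_four_of_ti (fun P g x hx hx1 hgx => ?_) (fun P c hc d hd => ?_)
  · obtain ⟨j, hj⟩ := IsPGroup.iff_orderOf.1 P.2 ⟨x, hx⟩
    rw [Subgroup.orderOf_mk] at hj
    rcases j with _ | j
    · exact absurd (orderOf_eq_one_iff.1 (hj.trans (pow_zero 2))) hx1
    set z := x ^ 2 ^ j with hz
    have hzP : z ∈ P := pow_mem hx _
    have hz2 : z * z = 1 := by
      rw [hz, ← pow_add, ← two_mul, ← pow_succ', ← hj, pow_orderOf_eq_one]
    have hz1 : z ≠ 1 := pow_ne_one_of_lt_orderOf (by positivity) (by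
      rw [hj]; exact Nat.pow_lt_pow_right (by norm_num) (by omega))
    have hgz : g * z * g⁻¹ ∈ P := by rw [hz, ← conj_pow]; exact pow_mem hgx _
    have hgz1 : g * z * g⁻¹ ≠ 1 := fun e => hz1 (conj_eq_one_iff.1 e)
    have hzc : z ∈ centre (P : Subgroup (Cfsg.PSU 3 F (2 ^ n))) := (R.omega P z hzP).1 hz2
    have hgzc : g * z * g⁻¹ ∈ centre (P : Subgroup (Cfsg.PSU 3 F (2 ^ n))) :=
      (R.omega P _ hgz).1 (by
        calc g * z * g⁻¹ * (g * z * g⁻¹) = g * (z * z) * g⁻¹ := by group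
          _ = 1 := by rw [hz2, mul_one, mul_inv_cancel])
    have hle : ((g • P : Sylow 2 (Cfsg.PSU 3 F (2 ^ n))) : Subgroup (Cfsg.PSU 3 F (2 ^ n))) ≤
        normalizer ((P : Subgroup (Cfsg.PSU 3 F (2 ^ n))) : Set (Cfsg.PSU 3 F (2 ^ n))) := by
      rw [Sylow.coe_subgroup_smul]
      rintro _ ⟨p, hp, rfl⟩
      refine R.cent P _ hgzc hgz1 (mem_centralizer_singleton_iff.2 ?_)
      show g * p * g⁻¹ * (g * z * g⁻¹) = g * z * g⁻¹ * (g * p * g⁻¹)
      calc g * p * g⁻¹ * (g * z * g⁻¹) = g * (p * z) * g⁻¹ := by group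
        _ = g * (z * p) * g⁻¹ := by rw [(Goldschmidt.General.Rank.mem_centre.1 hzc).2 p hp]
        _ = _ := by group
    refine Sylow.smul_eq_iff_mem_normalizer.1 ?_
    have hP2 := IsPGroup.to_sup_of_normal_right' (g • P).2 P.2 hle
    have h1 := P.3 hP2 le_sup_right
    exact Sylow.ext ((g • P).3 P.2 (le_sup_left.trans h1.le)).symm
  · obtain ⟨g, hg⟩ := Goldschmidt.Facts.exists_conj_kernel h hQ P
    have hN : ∀ c, c ∈ normalizer ((P : Subgroup (Cfsg.PSU 3 F (2 ^ n))) : Set (Cfsg.PSU 3 F (2 ^ n))) →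
        g⁻¹ * c * g ∈ normalizer (Q : Set (Cfsg.PSU 3 F (2 ^ n))) := fun c hc =>
      mem_normalizer_iff.2 fun v => by
        have h1 := (mem_normalizer_iff.1 hc (g * v * g⁻¹))
        constructor
        · intro hv
          have := (hg _).1 (h1.1 ((hg _).2 (by simpa [mul_assoc] using hv)))
          simpa [mul_assoc] using this
        · intro hv
          have := (hg _).1 (h1.2 ((hg _).2 (by simpa [mul_assoc] using hv)))
          simpa [mul_assoc] using this
    obtain ⟨y, hy, i, e⟩ := D.dec _ (hN c hc)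
    obtain ⟨y', hy', i', e'⟩ := D.dec _ (hN d hd)
    refine (hg _).2 ?_
    rw [show g⁻¹ * (c * d * c⁻¹ * d⁻¹) * g =
      (g⁻¹ * c * g) * (g⁻¹ * d * g) * (g⁻¹ * c * g)⁻¹ * (g⁻¹ * d * g)⁻¹ by group, e, e']
    have hcomm : k ^ i * k ^ i' = k ^ i' * k ^ i := by rw [← pow_add, add_comm, pow_add]
    have e2 : y * k ^ i * (y' * k ^ i') * (y * k ^ i)⁻¹ * (y' * k ^ i')⁻¹ =
        y * (k ^ i * y' * (k ^ i)⁻¹) * (k ^ i' * y⁻¹ * (k ^ i')⁻¹) * y'⁻¹ := by
      calc y * k ^ i * (y' * k ^ i') * (y * k ^ i)⁻¹ * (y' * k ^ i')⁻¹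
          = y * (k ^ i * y' * (k ^ i' * (k ^ i)⁻¹) * y⁻¹ * (k ^ i')⁻¹) * y'⁻¹ := by group
        _ = y * (k ^ i * y' * ((k ^ i)⁻¹ * k ^ i') * y⁻¹ * (k ^ i')⁻¹) * y'⁻¹ := by
          rw [show k ^ i' * (k ^ i)⁻¹ = (k ^ i)⁻¹ * k ^ i' by
            rw [eq_inv_mul_iff_mul_eq, ← mul_assoc, hcomm, mul_inv_cancel_right]]
        _ = _ := by group
    rw [e2]
    exact mul_mem (mul_mem (mul_mem hy ((mem_normalizer_iff.1 (pow_mem D.mem i) y').1 hy'))
      ((mem_normalizer_iff.1 (pow_mem D.mem i') y⁻¹).1 (inv_mem hy))) (inv_mem hy')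

theorem not_noInverted_psu (h2 : (2 : F) = 0) (q : ℕ) : ¬ NoInverted (Cfsg.PSU 3 F q) := by
  intro hno
  have hneg : (-1 : F) = 1 := by linear_combination -h2
  let x : Cfsg.SU 3 F q := ⟨⟨!![0, 1, 0; 0, 0, 1; 1, 0, 0], by simp [Matrix.det_fin_three]⟩, fun u v => by
    show Cfsg.hermForm 3 F q ((!![0, 1, 0; 0, 0, 1; 1, 0, 0] : Matrix (Fin 3) (Fin 3) F).mulVec u)
      ((!![0, 1, 0; 0, 0, 1; 1, 0, 0] : Matrix (Fin 3) (Fin 3) F).mulVec v) = _
    simp [Cfsg.hermForm, Fin.sum_univ_three, Matrix.mulVec, dotProduct]; ring⟩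
  let g : Cfsg.SU 3 F q := ⟨⟨!![0, 1, 0; 1, 0, 0; 0, 0, 1], by simp [Matrix.det_fin_three, hneg]⟩, fun u v => by
    show Cfsg.hermForm 3 F q ((!![0, 1, 0; 1, 0, 0; 0, 0, 1] : Matrix (Fin 3) (Fin 3) F).mulVec u)
      ((!![0, 1, 0; 1, 0, 0; 0, 0, 1] : Matrix (Fin 3) (Fin 3) F).mulVec v) = _
    simp [Cfsg.hermForm, Fin.sum_univ_three, Matrix.mulVec, dotProduct]; ring⟩
  have hgg : g * g = 1 := Subtype.ext (Subtype.ext (by
    show (g.1.1 * g.1.1 : Matrix (Fin 3) (Fin 3) F) = 1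
    ext i j
    fin_cases i <;> fin_cases j <;> simp [g, Matrix.mul_apply, Fin.sum_univ_three]))
  have hxg : g * x * g⁻¹ = x⁻¹ := by
    rw [inv_eq_of_mul_eq_one_right hgg]
    refine eq_inv_of_mul_eq_one_left (Subtype.ext (Subtype.ext ?_))
    show (g.1.1 * x.1.1 * g.1.1 * x.1.1 : Matrix (Fin 3) (Fin 3) F) = 1
    ext i j
    fin_cases i <;> fin_cases j <;> simp [g, x, Matrix.mul_apply, Fin.sum_univ_three]
  have hx3 : x ^ 3 = 1 := by
    rw [pow_succ, pow_two]
    refine Subtype.ext (Subtype.ext ?_)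
    show (x.1.1 * x.1.1 * x.1.1 : Matrix (Fin 3) (Fin 3) F) = 1
    ext i j
    fin_cases i <;> fin_cases j <;> simp [x, Matrix.mul_apply, Fin.sum_univ_three]
  have hx1 : (QuotientGroup.mk x : Cfsg.PSU 3 F q) ≠ 1 := by
    intro e
    have hz := Subgroup.mem_center_iff.1 ((QuotientGroup.eq_one_iff _).1 e) g
    have hxx : x⁻¹ = x := by rw [← hxg, hz, mul_inv_cancel_right]
    have h1 : x * x = 1 := by nth_rw 1 [← hxx]; exact inv_mul_cancel x
    rw [pow_succ, pow_two, h1, one_mul] at hx3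
    have := congrArg (fun z : Cfsg.SU 3 F q => (z : Matrix.SpecialLinearGroup (Fin 3) F).1 0 0) hx3
    simp [x] at this
  have : Fact (Nat.Prime 3) := ⟨Nat.prime_three⟩
  refine hx1 (hno _ (QuotientGroup.mk g) ⟨1, ?_⟩ ?_)
  · rw [pow_one]
    exact orderOf_eq_prime (by rw [← QuotientGroup.mk_pow, hx3]; rfl) hx1
  · rw [← QuotientGroup.mk_inv, ← QuotientGroup.mk_mul, ← QuotientGroup.mk_mul, ← QuotientGroup.mk_inv, hxg]

end PSU

/-! ### The first Janko group -/

theorem janko_comm (S : Sylow 2 ↥Cfsg.Spor.J1) : ∀ a ∈ (S : Subgroup ↥Cfsg.Spor.J1),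
    ∀ b ∈ (S : Subgroup ↥Cfsg.Spor.J1), a * b = b * a := by
  have : Finite ↥Cfsg.Spor.J1 := Nat.finite_of_card_ne_zero (by rw [JankoOne.natCard_j1]; norm_num)
  have : Fact (Nat.Prime 2) := ⟨Nat.prime_two⟩
  obtain ⟨t, ht, ⟨e⟩⟩ := JankoOne.exists_involution_centralizer
  have hC : Nat.card (centralizer ({t} : Set ↥Cfsg.Spor.J1)) = 120 := by
    rw [Nat.card_congr e.toEquiv, Nat.card_prod, nat_card_alternatingGroup, Nat.card_fin,
      Nat.card_congr Multiplicative.toAdd, Nat.card_zmod]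
    rfl
  have hidx : Odd (centralizer ({t} : Set ↥Cfsg.Spor.J1)).index := by
    have h := (centralizer ({t} : Set ↥Cfsg.Spor.J1)).card_mul_index
    rw [hC, JankoOne.natCard_j1] at h
    rw [show (centralizer ({t} : Set ↥Cfsg.Spor.J1)).index = 1463 by omega]
    decide
  obtain ⟨P, -, hP⟩ := ReeInverted.exists_sylow_le ht hidx
  have h60 : ¬ 8 ∣ Nat.card (alternatingGroup (Fin 5)) := by
    rw [nat_card_alternatingGroup, Nat.card_fin]; decide
  have hPc : ∀ a ∈ (P : Subgroup ↥Cfsg.Spor.J1), ∀ b ∈ (P : Subgroup ↥Cfsg.Spor.J1), a * b = b * a := by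
    intro a ha b hb
    let π : ↥(P : Subgroup ↥Cfsg.Spor.J1) →* alternatingGroup (Fin 5) :=
      ((MonoidHom.snd _ _).comp e.toMonoidHom).comp (Subgroup.inclusion hP)
    have hc := comm_of_two_group h60 (P.2.of_surjective π.rangeRestrict π.rangeRestrict_surjective)
      (π ⟨a, ha⟩) ⟨_, rfl⟩ (π ⟨b, hb⟩) ⟨_, rfl⟩
    have h2 : (⟨a, hP ha⟩ : centralizer ({t} : Set ↥Cfsg.Spor.J1)) * ⟨b, hP hb⟩ = ⟨b, hP hb⟩ * ⟨a, hP ha⟩ := by
      apply e.injective
      rw [map_mul, map_mul]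
      exact Prod.ext (mul_comm _ _) hc
    exact congrArg Subtype.val h2
  obtain ⟨g, rfl⟩ := MulAction.exists_smul_eq ↥Cfsg.Spor.J1 P S
  rw [Sylow.coe_subgroup_smul]
  rintro _ ⟨a, ha, rfl⟩ _ ⟨b, hb, rfl⟩
  show MulAut.conj g a * MulAut.conj g b = MulAut.conj g b * MulAut.conj g a
  rw [← map_mul, ← map_mul, hPc a ha b hb]

end Cfsg.Agent.GoldschmidtFree
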